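import Mathlib
import Cfsg.Agent.SpPres77.Lift
import Cfsg.Agent.SLPres77.Amalgam
import Cfsg.Agent.SchurClassical.SympCross
import Cfsg.Agent.AltPres54.Small
import Cfsg.Agent.AltPres54.Tiny
import Cfsg.Agent.S2290
import Cfsg.Agent.S2293

/-!
Short presentations of `Sp_{2n}` and `PSp_{2n}`.
-/

set_option autoImplicit false

namespace CfsgLib.SpPres77

open Matrix CfsgLib.Classical.Symp CfsgLib.SympAmalgam Equiv

variable {F : Type*} [Field F] {n : ℕ}

local notation "Sp[" m "]" => Matrix.symplecticGroup (Fin m) F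
local notation "Mat[" m "]" => Matrix (Fin m ⊕ Fin m) (Fin m ⊕ Fin m) F

theorem perm_two_gens (β : Type*) [Fintype β] [DecidableEq β] :
    ∃ a b : Perm β, Subgroup.closure ({a, b} : Set (Perm β)) = ⊤ := by
  rcases Nat.lt_or_ge (Fintype.card β) 2 with h | h
  · haveI : Subsingleton β := Fintype.card_le_one_iff_subsingleton.1 (by omega)
    exact ⟨1, 1, Subsingleton.elim _ _⟩
  obtain ⟨k, hk⟩ : ∃ k, Fintype.card β = k + 2 := ⟨Fintype.card β - 2, by omega⟩
  let f := ((Fintype.equivFin β).trans (finCongr hk)).symm.permCongrHom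
  have e := congrArg (Subgroup.map f.toMonoidHom)
    (Perm.closure_cycle_adjacent_swap (isCycle_finRotate (n := k)) support_finRotate (0 : Fin (k + 2)))
  rw [MonoidHom.map_closure, Set.image_pair, ← MonoidHom.range_eq_map,
    MonoidHom.range_eq_top.2 f.surjective] at e
  exact ⟨_, _, e⟩

theorem stab_two_gens {α : Type*} [Fintype α] [DecidableEq α] (s : Finset α) :
    ∃ a b : Perm α, (∀ x ∈ s, a x = x ∧ b x = x) ∧
      ∀ z : Perm α, (∀ x ∈ s, z x = x) → z ∈ Subgroup.closure ({a, b} : Set (Perm α)) := by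
  obtain ⟨a, b, hab⟩ := perm_two_gens {x // x ∉ s}
  refine ⟨Perm.ofSubtype a, Perm.ofSubtype b, fun x hx =>
    ⟨Perm.ofSubtype_apply_of_not_mem a (not_not_intro hx),
      Perm.ofSubtype_apply_of_not_mem b (not_not_intro hx)⟩, fun z hz => ?_⟩
  have h1 : ∀ x, x ∉ s → z x ∉ s := fun x hx h => hx (by
    have := z.injective (hz _ h)
    rwa [this] at h)
  have hmem : Perm.ofSubtype (z.subtypePerm (fun x =>
      ⟨fun hx => fun h => hx (by rw [hz x h]; exact h), h1 x⟩) : Perm {x // x ∉ s}) ∈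
      (Subgroup.closure ({a, b} : Set (Perm {x // x ∉ s}))).map Perm.ofSubtype :=
    Subgroup.mem_map_of_mem _ (hab ▸ Subgroup.mem_top _)
  rw [MonoidHom.map_closure, Set.image_pair] at hmem
  rwa [Perm.ofSubtype_subtypePerm] at hmem
  intro x hx
  exact fun h => hx (hz x h)

theorem sp_one_two_gens [Fintype F] :
    ∃ u v : Sp[1], Subgroup.closure ({u, v} : Set Sp[1]) = ⊤ := by
  classical
  obtain ⟨a, b, hab⟩ : ∃ a b : Matrix.SpecialLinearGroup (Fin 2) F,
      Subgroup.closure ({a, b} : Set (Matrix.SpecialLinearGroup (Fin 2) F)) = ⊤ := by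
    by_cases h4 : 4 ≤ Fintype.card F
    · exact Cfsg.Agent.S2290.sl_two_two_generated h4
    obtain ⟨ζ, hζ⟩ := IsCyclic.exists_generator (α := Fˣ)
    obtain ⟨p, hp⟩ := CharP.exists F
    haveI := hp
    haveI : Fact p.Prime := ⟨CharP.char_is_prime F p⟩
    obtain ⟨r, hpp, hr⟩ := FiniteField.card F p
    have hcard : Fintype.card F = p := by
      have hr1 : (r : ℕ) = 1 := by
        by_contra hne
        have : 2 ≤ (r : ℕ) := by have := r.pos; omega
        have h2 := Nat.pow_le_pow_right hpp.pos this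
        have h3 := Nat.pow_le_pow_left hpp.two_le 2
        omega
      rw [hr, hr1, pow_one]
    let φ := ZMod.castHom (dvd_refl p) F
    have hφ : Function.Bijective φ := by
      rw [Fintype.bijective_iff_injective_and_card, ZMod.card, hcard]
      exact ⟨φ.injective, rfl⟩
    open CfsgLib.Psl2Unipotent CfsgLib.SLTwoPres in
    refine ⟨upperU 1, weylSL, ?_⟩
    set K := Subgroup.closure ({upperU 1, weylSL} : Set (Matrix.SpecialLinearGroup (Fin 2) F))
    open CfsgLib.Psl2Unipotent CfsgLib.SLTwoPres in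
    have hu : upperU (1 : F) ∈ K := Subgroup.subset_closure (Or.inl rfl)
    open CfsgLib.Psl2Unipotent CfsgLib.SLTwoPres in
    have hw : (weylSL : Matrix.SpecialLinearGroup (Fin 2) F) ∈ K := Subgroup.subset_closure (Or.inr rfl)
    open CfsgLib.Psl2Unipotent CfsgLib.SLTwoPres in
    have hx : ∀ t : F, upperU t ∈ K := fun t => by
      obtain ⟨z, rfl⟩ := hφ.2 t
      rw [← ZMod.natCast_zmod_val z, map_natCast]
      induction z.val with
      | zero => rw [Nat.cast_zero, (slData_matrix (F := F) ζ).x_zero]; exact K.one_mem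
      | succ m ih => rw [Nat.cast_succ, (slData_matrix (F := F) ζ).add]; exact K.mul_mem ih hu
    open CfsgLib.Psl2Unipotent CfsgLib.SLTwoPres in
    refine eq_top_iff.2 fun g _ => mem_of_generators hζ K hx ?_ hw g
    open CfsgLib.Psl2Unipotent CfsgLib.SLTwoPres in
    have hz : ζ = 1 ∨ ζ = -1 := by
      have h1 : Fintype.card Fˣ ≤ 2 := by rw [Fintype.card_units]; omega
      have h2 : ζ ^ Fintype.card Fˣ = 1 := pow_card_eq_one
      have : 0 < Fintype.card Fˣ := Fintype.card_pos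
      rcases (show Fintype.card Fˣ = 1 ∨ Fintype.card Fˣ = 2 by omega) with e | e <;> rw [e] at h2
      · exact Or.inl (by simpa using h2)
      · have h3 : (ζ : F) * ζ = 1 := by rw [← pow_two, ← Units.val_pow_eq_pow_val, h2, Units.val_one]
        exact (mul_self_eq_one_iff.1 h3).imp (fun h => Units.ext h) (fun h => Units.ext h)
    open CfsgLib.Psl2Unipotent CfsgLib.SLTwoPres in
    rcases hz with rfl | rfl
    · rw [show diagA (1 : Fˣ) = 1 from Subtype.ext (by simp [diagA, Matrix.one_fin_two])]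
      exact K.one_mem
    · have : diagA (-1 : Fˣ) = weylSL * weylSL := Subtype.ext (by
        rw [Matrix.SpecialLinearGroup.coe_mul]; simp [diagA, weylSL, Matrix.mul_fin_two])
      rw [this]
      exact K.mul_mem hw hw
  let e := (CfsgLib.SchurClassical.Sp.sp2Equiv (F := F)).symm
  have := congrArg (Subgroup.map e.toMonoidHom) hab
  rw [MonoidHom.map_closure, Set.image_pair, ← MonoidHom.range_eq_map,
    MonoidHom.range_eq_top.2 e.surjective] at this
  exact ⟨_, _, this⟩

/-- The stabiliser of the pair centralises the whole rank two group. -/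
theorem stab_all {G : Type*} [Group G] (hn : 3 ≤ n) (rho : Perm (Fin n) →* G) (lam : Sp[2] →* G)
    (h01 : rho (swap (q hn 0) (q hn 1)) = lam (swp F)) {z : Perm (Fin n)}
    (hz0 : z (q hn 0) = q hn 0) (hz1 : z (q hn 1) = q hn 1)
    (h1 : ∀ h, Commute (rho z) (lam (e0 F h))) (h2 : Commute (rho z) (lam (xr F 1))) (g : Sp[2]) :
    Commute (rho z) (lam g) := by
  have h := two_closure ((Subgroup.centralizer {rho z}).comap lam)
    (fun _ ⟨h, e⟩ => e ▸ Subgroup.mem_centralizer_singleton_iff.2 (h1 h).eq.symm)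
    (Subgroup.mem_centralizer_singleton_iff.2 (by
      rw [← h01, ← map_mul, ← map_mul]
      congr 1
      have := Equiv.swap_apply_apply z (q hn 0) (q hn 1)
      rw [hz0, hz1] at this
      exact (eq_mul_inv_iff_mul_eq.1 this)))
    (Subgroup.mem_centralizer_singleton_iff.2 h2.eq.symm)
  exact (Subgroup.mem_centralizer_singleton_iff.1
    (h.ge (Subgroup.mem_top g) : lam g ∈ Subgroup.centralizer {rho z})).symm

section Model

variable (hn : 3 ≤ n)

theorem permHom_emb {k : ℕ} (σ : Perm (Fin n)) (ι κ : Fin k ↪ Fin n) (h : ∀ a, σ (ι a) = κ a)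
    (g : Matrix.symplecticGroup (Fin k) F) :
    permHom n F σ * emb ι g * (permHom n F σ)⁻¹ = emb κ g := by
  rw [permHom_conj]
  exact congrArg (fun i => emb i g) (Function.Embedding.ext h)

theorem emb_e0 (ι : Fin 2 ↪ Fin n) (h : Sp[1]) : emb ι (e0 F h) = emb (oneE (ι 0)) h := by
  rw [e0, ← emb_trans, oneE_trans]

theorem model : Glue hn (permHom n F) (emb (F := F) (base hn)) where
  swap01 := (swp_emb (base hn)).symm
  stab2 z h0 h1 := mul_inv_eq_iff_eq_mul.1 (permHom_emb z _ _ (fun a => by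
    rcases (show a = 0 ∨ a = 1 by omega) with rfl | rfl
    exacts [h0, h1]) _)
  stab1 z h0 h := mul_inv_eq_iff_eq_mul.1 (by
    rw [emb_e0]
    exact permHom_emb z _ _ (fun _ => h0) _)
  long h := by
    rw [emb_e0, permHom_emb _ _ (oneE (q hn 2)) (fun _ => swap_apply_left _ _)]
    exact emb_commute _ _ (fun a _ => by
      rcases (show a = 0 ∨ a = 1 by omega) with rfl | rfl
      exacts [q_ne hn (by decide), q_ne hn (by decide)]) _ _
  disj τ h0 h1 := by
    rw [permHom_conj]
    refine emb_commute _ _ (fun a b e => ?_) _ _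
    have e' := congrArg Fin.val e
    rcases (show a = 0 ∨ a = 1 by omega) with rfl | rfl <;>
      rcases (show b = 0 ∨ b = 1 by omega) with rfl | rfl <;>
      (simp only [Function.Embedding.trans_apply, base, pairE_zero, pairE_one,
        Equiv.coe_toEmbedding] at e'; simp only [q] at e' h0 h1; omega)
  chain c h0 h1 := by
    have hκ : ∀ g : Sp[2], permHom n F c * emb (base hn) g * (permHom n F c)⁻¹ =
        emb (pairE (q hn 1) (q hn 2) (q_ne hn (by decide))) g := fun g => permHom_emb c _ _ (fun a => by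
      rcases (show a = 0 ∨ a = 1 by omega) with rfl | rfl
      exacts [h0, h1]) g
    set κ := pairE (q hn 1) (q hn 2) (q_ne hn (show (1 : Fin 3) ≠ 2 by decide))
    rw [hκ, hκ, Glue.emb_xr, Glue.emb_xr, one_smul, one_smul]
    have hB : ∀ i j : Fin n, Cfsg.sympForm n F (stdF i) (stdF j) = 0 := form_stdF_stdF
    refine ⟨?_, ?_⟩
    · refine mul_inv_eq_iff_eq_mul.1 ?_
      rw [conj_eT, eT_fix (hB _ _) 0 (hB _ _) (hB _ _), eT_fix (hB _ _) 0 (hB _ _) (hB _ _)]
    · have hoff : ∀ a, κ a ≠ q hn 0 := fun a => by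
        rcases (show a = 0 ∨ a = 1 by omega) with rfl | rfl
        exacts [q_ne hn (by decide), q_ne hn (by decide)]
      have hb : Cfsg.sympForm 2 F (stdE 0) (-stdF 1) = 0 := by
        rw [form_neg_right, form_stdE_stdF]; simp
      have hm : ((emb κ (shear F) : Sp[n]) : Mat[n]) *ᵥ stdF (κ 0) = stdF (κ 0) + stdF (κ 1) := by
        rw [emb_stdF, shear, eT_mulVec hb, form_neg_right, form_stdF_stdF, form_stdF_stdE]
        simp [push_stdF, map_add]
      rw [conj_eT, conj_eT, permHom_stdF, permHom_stdF, show base hn 0 = q hn 0 from rfl,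
        show base hn 1 = q hn 1 from rfl, (emb_fix κ _ hoff).1, show q hn 1 = κ 0 from rfl, hm,
        show q hn 2 = κ 1 from rfl, swap_apply_left, swap_apply_of_ne_of_ne (hoff 0).symm (hoff 1).symm,
        eT_mul (hB _ _) (hB _ _), hB]
      simp

theorem model_surjective :
    (permHom n F).range ⊔ (emb (F := F) (base hn)).range = ⊤ := by
  set A := (permHom n F).range ⊔ (emb (F := F) (base hn)).range
  have hconj : ∀ (ι : Fin 2 ↪ Fin n) (g : Sp[2]), emb ι g ∈ A := fun ι g => by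
    obtain ⟨σ, hσ⟩ := exists_perm_ext (base hn) ι
    rw [← permHom_emb σ (base hn) ι hσ]
    exact mul_mem (mul_mem (Subgroup.mem_sup_left ⟨σ, rfl⟩) (Subgroup.mem_sup_right ⟨g, rfl⟩))
      (inv_mem (Subgroup.mem_sup_left ⟨σ, rfl⟩))
  refine eq_top_of_planes A (fun j => ?_) fun i hi => ?_
  · rw [← range_oneE]
    rintro _ ⟨h, rfl⟩
    obtain ⟨l, hl⟩ : ∃ l : Fin n, j ≠ l := by
      haveI : Nontrivial (Fin n) := Fin.nontrivial_iff_two_le.2 (by omega)
      exact (exists_ne j).imp fun _ h => h.symm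
    have := hconj (pairE j l hl) (emb (oneE 0) h)
    rwa [← emb_trans, oneE_trans] at this
  · have := hconj (pairE i ⟨i.val + 1, hi⟩ (fun e => by have := congrArg Fin.val e; simp at this)) (xr F 1)
    rwa [Glue.emb_xr, one_smul] at this

end Model

/-- Gluing presentations of the symmetric group and of `Sp₄`. -/
theorem sp_pres [Fintype F] {m : ℕ} (hn : 3 ≤ n) (RA : Finset (FreeGroup (Fin m)))
    (eA : PresentedGroup (↑RA : Set (FreeGroup (Fin m))) ≃* Perm (Fin n))
    (A1 A2 T : List (Perm (Fin n))) (hA1 : ∀ z ∈ A1, z (q hn 0) = q hn 0)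
    (hA1' : ∀ z : Perm (Fin n), z (q hn 0) = q hn 0 → z ∈ Subgroup.closure {x | x ∈ A1})
    (hA2 : ∀ z ∈ A2, z (q hn 0) = q hn 0 ∧ z (q hn 1) = q hn 1)
    (hA2' : ∀ z : Perm (Fin n), z (q hn 0) = q hn 0 → z (q hn 1) = q hn 1 →
      z ∈ Subgroup.closure {x | x ∈ A2})
    (hT : ∀ τ ∈ T, (τ (q hn 0)).val = 2 ∧ (τ (q hn 1)).val = 3) (hT' : 4 ≤ n → T ≠ []) :
    ∃ R : Finset (FreeGroup (Fin (m + 6))),
      R.card ≤ RA.card + 35 + (2 * A1.length + A2.length + T.length + 5) ∧
      Nonempty (PresentedGroup (↑R : Set (FreeGroup (Fin (m + 6)))) ≃* Sp[n]) := by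
  classical
  obtain ⟨p, hp⟩ := CharP.exists F
  haveI := hp
  haveI : Fact p.Prime := ⟨CharP.char_is_prime F p⟩
  letI : Algebra (ZMod p) F := ZMod.algebra F p
  obtain ⟨ζ, hζ⟩ := IsCyclic.exists_generator (α := Fˣ)
  obtain ⟨RB, hRB, ⟨eB⟩⟩ := Cfsg.Agent.S2293.pres6 p hζ
  obtain ⟨u, v, huv⟩ := sp_one_two_gens (F := F)
  obtain ⟨c, hc⟩ := exists_perm_ext (base hn) (pairE (q hn 1) (q hn 2) (q_ne hn (by decide)))
  let il : Perm (Fin n) →* Monoid.Coprod (Perm (Fin n)) Sp[2] := Monoid.Coprod.inl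
  let ir : Sp[2] →* Monoid.Coprod (Perm (Fin n)) Sp[2] := Monoid.Coprod.inr
  let cm : Monoid.Coprod (Perm (Fin n)) Sp[2] → Monoid.Coprod (Perm (Fin n)) Sp[2] →
      Monoid.Coprod (Perm (Fin n)) Sp[2] := fun a b => a * b * a⁻¹ * b⁻¹
  let X := ir (xr F 1)
  let s02 := il (swap (q hn 0) (q hn 2))
  let s12 := il (swap (q hn 1) (q hn 2))
  let EL : List (Monoid.Coprod (Perm (Fin n)) Sp[2]) :=
    [il (swap (q hn 0) (q hn 1)) * (ir (swp F))⁻¹] ++
    A1.map (fun z => cm (il z) (ir (e0 F u))) ++ A1.map (fun z => cm (il z) (ir (e0 F v))) ++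
    A2.map (fun z => cm (il z) X) ++ T.map (fun τ => cm X (il τ * X * (il τ)⁻¹)) ++
    [cm X (s02 * ir (e0 F u) * s02⁻¹), cm X (s02 * ir (e0 F v) * s02⁻¹),
      cm X (il c * X * (il c)⁻¹),
      X * (s12 * X * s12⁻¹) *
        (il c * ir (shear F) * (il c)⁻¹ * X * (il c * ir (shear F) * (il c)⁻¹)⁻¹)⁻¹]
  have hcm : ∀ {H : Type _} [Group H] (f : Monoid.Coprod (Perm (Fin n)) Sp[2] →* H) a b,
      f (cm a b) = 1 ↔ Commute (f a) (f b) := fun {H} _ f a b => by
    simp only [cm, map_mul, map_inv, mul_inv_eq_one]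
    exact mul_inv_eq_iff_eq_mul
  refine (CfsgLib.SLPres77.exists_pres_amalg RA eA RB eB EL (permHom n F) (emb (base hn)) ?_
    (model_surjective hn) ?_).imp fun R hR => ⟨hR.1.trans (by simp [EL]; omega), hR.2⟩
  · have D := model (F := F) hn
    intro w hw
    simp only [EL, List.mem_append, List.mem_map, List.mem_cons, List.not_mem_nil, or_false] at hw
    rcases hw with ((((rfl | ⟨z, hz, rfl⟩) | ⟨z, hz, rfl⟩) | ⟨z, hz, rfl⟩) | ⟨τ, hτ, rfl⟩) |
      (rfl | rfl | rfl | rfl)
    · simp only [il, ir, map_mul, map_inv, Monoid.Coprod.lift_apply_inl, Monoid.Coprod.lift_apply_inr,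
        D.swap01, mul_inv_cancel]
    · exact (hcm _ _ _).2 (by simpa [il, ir] using D.stab1 z (hA1 z hz) u)
    · exact (hcm _ _ _).2 (by simpa [il, ir] using D.stab1 z (hA1 z hz) v)
    · exact (hcm _ _ _).2 (by simpa [il, ir, X] using D.stab2 z (hA2 z hz).1 (hA2 z hz).2)
    · exact (hcm _ _ _).2 (by simpa [il, ir, X] using D.disj τ (hT τ hτ).1 (hT τ hτ).2)
    · exact (hcm _ _ _).2 (by simpa [il, ir, X, s02] using D.long u)
    · exact (hcm _ _ _).2 (by simpa [il, ir, X, s02] using D.long v)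
    · exact (hcm _ _ _).2 (by simpa [il, ir, X] using (D.chain c (hc 0) (hc 1)).1)
    · simp only [il, ir, X, s12, map_mul, map_inv, Monoid.Coprod.lift_apply_inl,
        Monoid.Coprod.lift_apply_inr, (D.chain c (hc 0) (hc 1)).2, mul_inv_cancel]
  · intro G _ rho lam hrel
    have hcl : ∀ (f : Monoid.Coprod (Perm (Fin n)) Sp[2] →* G) a b, f (cm a b) = 1 →
        Commute (f a) (f b) := fun f a b h => by
      simp only [cm, map_mul, map_inv, mul_inv_eq_one] at h
      exact mul_inv_eq_iff_eq_mul.1 h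
    have h01 : rho (swap (q hn 0) (q hn 1)) = lam (swp F) := by
      simpa [il, ir, mul_inv_eq_one] using hrel (il (swap (q hn 0) (q hn 1)) * (ir (swp F))⁻¹)
        (by simp [EL])
    have hgen : ∀ (K : Subgroup Sp[1]), u ∈ K → v ∈ K → ∀ h, h ∈ K := fun K hu hv h => by
      have : Subgroup.closure ({u, v} : Set Sp[1]) ≤ K := by
        rw [Subgroup.closure_le]; rintro x (rfl | rfl) <;> assumption
      exact this (huv ▸ Subgroup.mem_top h)
    have hs1 : ∀ z, z (q hn 0) = q hn 0 → ∀ h, Commute (rho z) (lam (e0 F h)) := by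
      intro z hz h
      refine (Subgroup.mem_centralizer_singleton_iff.1 (?_ : rho z ∈ Subgroup.centralizer {lam (e0 F h)}))
      suffices Subgroup.closure {x | x ∈ A1} ≤ (Subgroup.centralizer {lam (e0 F h)}).comap rho from
        this (hA1' z hz)
      rw [Subgroup.closure_le]
      intro x hx
      refine Subgroup.mem_centralizer_singleton_iff.2 ?_
      have hh : h ∈ (Subgroup.centralizer {rho x}).comap (lam.comp (e0 F)) := by
        refine hgen _ ?_ ?_ h <;> refine Subgroup.mem_centralizer_singleton_iff.2 ?_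
        · have := hcl _ _ _ (hrel (cm (il x) (ir (e0 F u))) (by
            simp only [EL, List.mem_append, List.mem_map]
            exact Or.inl (Or.inl (Or.inl (Or.inl (Or.inr ⟨x, hx, rfl⟩))))))
          simpa [il, ir] using this.eq.symm
        · have := hcl _ _ _ (hrel (cm (il x) (ir (e0 F v))) (by
            simp only [EL, List.mem_append, List.mem_map]
            exact Or.inl (Or.inl (Or.inl (Or.inr ⟨x, hx, rfl⟩)))))
          simpa [il, ir] using this.eq.symm
      exact (Subgroup.mem_centralizer_singleton_iff.1 hh).symm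
    have hs2 : ∀ z, z (q hn 0) = q hn 0 → z (q hn 1) = q hn 1 → Commute (rho z) (lam (xr F 1)) := by
      intro z hz hz'
      refine (Subgroup.mem_centralizer_singleton_iff.1 (?_ : rho z ∈ Subgroup.centralizer {lam (xr F 1)}))
      suffices Subgroup.closure {x | x ∈ A2} ≤ (Subgroup.centralizer {lam (xr F 1)}).comap rho from
        this (hA2' z hz hz')
      rw [Subgroup.closure_le]
      intro x hx
      refine Subgroup.mem_centralizer_singleton_iff.2 ?_
      have := hcl _ _ _ (hrel (cm (il x) X) (by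
        simp only [EL, List.mem_append, List.mem_map]
        exact Or.inl (Or.inl (Or.inr ⟨x, hx, rfl⟩))))
      simpa [il, ir, X] using this.eq
    have agree : ∀ (σ τ : Perm (Fin n)), σ (q hn 0) = τ (q hn 0) → σ (q hn 1) = τ (q hn 1) →
        ∀ g, rho σ * lam g * (rho σ)⁻¹ = rho τ * lam g * (rho τ)⁻¹ := by
      intro σ τ e0' e1' g
      have hz0 : (τ⁻¹ * σ) (q hn 0) = q hn 0 := by simp [Perm.mul_apply, e0']
      have hz1 : (τ⁻¹ * σ) (q hn 1) = q hn 1 := by simp [Perm.mul_apply, e1']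
      have h := stab_all hn rho lam h01 hz0 hz1 (hs1 _ hz0) (hs2 _ hz0 hz1) g
      rw [map_mul, map_inv] at h
      calc rho σ * lam g * (rho σ)⁻¹ = rho τ * ((rho τ)⁻¹ * rho σ * lam g) * (rho σ)⁻¹ := by group
        _ = _ := by rw [h.eq]; group
    have hlast : ∀ w ∈ [cm X (s02 * ir (e0 F u) * s02⁻¹), cm X (s02 * ir (e0 F v) * s02⁻¹),
        cm X (il c * X * (il c)⁻¹), X * (s12 * X * s12⁻¹) *
        (il c * ir (shear F) * (il c)⁻¹ * X * (il c * ir (shear F) * (il c)⁻¹)⁻¹)⁻¹],
        Monoid.Coprod.lift rho lam w = 1 := fun w hw =>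
      hrel w (List.mem_append_right _ hw)
    have hlong : ∀ h, Commute (lam (xr F 1))
        (rho (swap (q hn 0) (q hn 2)) * lam (e0 F h) * (rho (swap (q hn 0) (q hn 2)))⁻¹) := by
      intro h
      have hh : h ∈ (Subgroup.centralizer {lam (xr F 1)}).comap
          ((MulAut.conj (rho (swap (q hn 0) (q hn 2)))).toMonoidHom.comp (lam.comp (e0 F))) := by
        refine hgen _ ?_ ?_ h <;> refine Subgroup.mem_centralizer_singleton_iff.2 ?_
        · have := hcl _ _ _ (hlast (cm X (s02 * ir (e0 F u) * s02⁻¹)) (by simp))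
          simpa [il, ir, X, s02] using this.eq.symm
        · have := hcl _ _ _ (hlast (cm X (s02 * ir (e0 F v) * s02⁻¹)) (by simp))
          simpa [il, ir, X, s02] using this.eq.symm
      exact (Subgroup.mem_centralizer_singleton_iff.1 hh).symm
    have hdisj : ∀ τ : Perm (Fin n), (τ (q hn 0)).val = 2 → (τ (q hn 1)).val = 3 →
        Commute (lam (xr F 1)) (rho τ * lam (xr F 1) * (rho τ)⁻¹) := by
      intro τ h2 h3
      have h4 : 4 ≤ n := by have := (τ (q hn 1)).isLt; omega
      obtain ⟨τ0, hτ0⟩ := List.exists_mem_of_ne_nil _ (hT' h4)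
      have := hcl _ _ _ (hrel (cm X (il τ0 * X * (il τ0)⁻¹)) (by
        simp only [EL, List.mem_append, List.mem_map]
        exact Or.inl (Or.inr ⟨τ0, hτ0, rfl⟩)))
      rw [agree τ τ0 (Fin.ext (h2.trans (hT τ0 hτ0).1.symm)) (Fin.ext (h3.trans (hT τ0 hτ0).2.symm))]
      simpa [il, ir, X] using this
    have hchain : Commute (lam (xr F 1)) (rho c * lam (xr F 1) * (rho c)⁻¹) := by
      have := hcl _ _ _ (hlast (cm X (il c * X * (il c)⁻¹)) (by simp))
      simpa [il, ir, X] using this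
    have hadd := hlast (X * (s12 * X * s12⁻¹) *
      (il c * ir (shear F) * (il c)⁻¹ * X * (il c * ir (shear F) * (il c)⁻¹)⁻¹)⁻¹) (by simp)
    simp only [il, ir, X, s12, map_mul, map_inv, Monoid.Coprod.lift_apply_inl,
      Monoid.Coprod.lift_apply_inr, mul_inv_eq_one] at hadd
    have D : Glue hn rho lam :=
      { swap01 := h01
        stab2 := hs2
        stab1 := hs1
        long := hlong
        disj := hdisj
        chain := fun c' e0' e1' => by
          have h0 : c' (q hn 0) = c (q hn 0) := e0'.trans (hc 0).symm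
          have h1 : c' (q hn 1) = c (q hn 1) := e1'.trans (hc 1).symm
          rw [agree c' c h0 h1, agree c' c h0 h1]
          exact ⟨hchain, hadd⟩ }
    exact D.exists_lift

theorem psp_of_sp [Fintype F] {m k : ℕ} (R : Finset (FreeGroup (Fin m))) (hR : R.card ≤ k)
    (e : PresentedGroup (↑R : Set (FreeGroup (Fin m))) ≃* Sp[n]) :
    ∃ R' : Finset (FreeGroup (Fin m)), R'.card ≤ k + 1 ∧
      Nonempty (PresentedGroup (↑R' : Set (FreeGroup (Fin m))) ≃* Cfsg.PSp n F) := by
  obtain ⟨R', hR', he⟩ := CfsgLib.SLPres77.exists_pres_quot R e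
    (Subgroup.center (Matrix.symplecticGroup (Fin n) F)) (negOne n F)
    (mem_center_iff.2 (Or.inr rfl)) (fun x hx => by
      rcases mem_center_iff.1 hx with h | h
      · exact ⟨0, by rw [zpow_zero]; exact (Subtype.ext h).symm⟩
      · exact ⟨1, by rw [zpow_one]; exact (Subtype.ext h).symm⟩)
  exact ⟨R', hR'.trans (Nat.add_le_add_right hR 1), he⟩

theorem sp_six [Fintype F] :
    ∃ R : Finset (FreeGroup (Fin 8)), R.card ≤ 52 ∧
      Nonempty (PresentedGroup (↑R : Set (FreeGroup (Fin 8))) ≃* Sp[3]) := by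
  obtain ⟨RA, hRA, ⟨eA⟩⟩ := CfsgLib.AltPres54.has28_sym_three
  obtain ⟨R, hR, he⟩ := sp_pres (F := F) (le_refl 3) RA eA
    [swap (q le_rfl 1) (q le_rfl 2)] [] []
    (by simp only [List.mem_singleton, forall_eq]; decide)
    (by
      have : ∀ z : Perm (Fin 3), z 0 = 0 → z = 1 ∨ z = swap 1 2 := by decide
      intro z hz
      rcases this z hz with rfl | rfl
      · exact one_mem _
      · exact Subgroup.subset_closure (by simp [q]))
    (by simp)
    (by
      have : ∀ z : Perm (Fin 3), z 0 = 0 → z 1 = 1 → z = 1 := by decide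
      intro z h0 h1
      rw [this z h0 h1]
      exact one_mem _)
    (by simp) (fun h => absurd h (by omega))
  exact ⟨R, by simp at hR; omega, he⟩

theorem sp_lists (hn : 4 ≤ n) :
    ∃ A1 A2 T : List (Perm (Fin n)), A1.length = 2 ∧ A2.length = 2 ∧ T.length = 1 ∧
      (∀ z ∈ A1, z (q (by omega) 0) = q (by omega) 0) ∧
      (∀ z : Perm (Fin n), z (q (by omega) 0) = q (by omega) 0 → z ∈ Subgroup.closure {x | x ∈ A1}) ∧
      (∀ z ∈ A2, z (q (by omega) 0) = q (by omega) 0 ∧ z (q (by omega) 1) = q (by omega) 1) ∧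
      (∀ z : Perm (Fin n), z (q (by omega) 0) = q (by omega) 0 → z (q (by omega) 1) = q (by omega) 1 →
        z ∈ Subgroup.closure {x | x ∈ A2}) ∧
      (∀ τ ∈ T, (τ (q (by omega) 0)).val = 2 ∧ (τ (q (by omega) 1)).val = 3) := by
  have h3 : 3 ≤ n := by omega
  obtain ⟨a, b, hab, hgen⟩ := stab_two_gens ({q h3 0} : Finset (Fin n))
  obtain ⟨a', b', hab', hgen'⟩ := stab_two_gens ({q h3 0, q h3 1} : Finset (Fin n))
  obtain ⟨τ, hτ⟩ := exists_perm_ext (base h3)
    (pairE (⟨2, by omega⟩ : Fin n) ⟨3, by omega⟩ (by simp [Fin.ext_iff]))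
  refine ⟨[a, b], [a', b'], [τ], rfl, rfl, rfl, ?_, fun z hz => ?_, ?_, fun z h0 h1 => ?_, ?_⟩
  · intro z hz
    simp only [List.mem_cons, List.not_mem_nil, or_false] at hz
    rcases hz with rfl | rfl
    exacts [(hab _ (Finset.mem_singleton_self _)).1, (hab _ (Finset.mem_singleton_self _)).2]
  · have := hgen z (fun x hx => by rw [Finset.mem_singleton.1 hx]; exact hz)
    refine Subgroup.closure_mono ?_ this
    rintro x (rfl | rfl) <;> simp
  · intro z hz
    simp only [List.mem_cons, List.not_mem_nil, or_false] at hz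
    rcases hz with rfl | rfl
    exacts [⟨(hab' _ (by simp)).1, (hab' _ (by simp)).1⟩, ⟨(hab' _ (by simp)).2, (hab' _ (by simp)).2⟩]
  · have := hgen' z (fun x hx => by
      rcases Finset.mem_insert.1 hx with rfl | hx
      · exact h0
      · rw [Finset.mem_singleton.1 hx]; exact h1)
    refine Subgroup.closure_mono ?_ this
    rintro x (rfl | rfl) <;> simp
  · intro z hz
    rw [List.mem_singleton.1 hz]
    exact ⟨congrArg Fin.val (hτ 0), congrArg Fin.val (hτ 1)⟩

theorem sp_nine [Fintype F] (hn : 4 ≤ n) :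
    ∃ R : Finset (FreeGroup (Fin 9)), R.card ≤ 57 ∧
      Nonempty (PresentedGroup (↑R : Set (FreeGroup (Fin 9))) ≃* Sp[n]) := by
  obtain ⟨A1, A2, T, l1, l2, l3, h1, h1', h2, h2', h3⟩ := sp_lists hn
  have hT : 4 ≤ n → T ≠ [] := fun _ e => by simp [e] at l3
  rcases (show n = 4 ∨ 5 ≤ n by omega) with rfl | h5
  · obtain ⟨RA, hRA, ⟨eA⟩⟩ := CfsgLib.AltPres54.has28_sym_four
    obtain ⟨R, hR, ⟨e⟩⟩ := sp_pres (F := F) (by omega) RA eA A1 A2 T h1 h1' h2 h2' h3 hT
    obtain ⟨R', hR', he⟩ := CfsgLib.SLPres77.exists_pres_pad R e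
    exact ⟨R', by omega, he⟩
  · obtain ⟨RA, hRA, eA, -⟩ := (CfsgLib.AltPres54.has37_all h5).1
    obtain ⟨R, hR, he⟩ := sp_pres (F := F) (by omega) RA eA A1 A2 T h1 h1' h2 h2' h3 hT
    exact ⟨R, by omega, he⟩

theorem sp_ten [Fintype F] (hn : 4 ≤ n) :
    ∃ R : Finset (FreeGroup (Fin 10)), R.card ≤ 58 ∧
      Nonempty (PresentedGroup (↑R : Set (FreeGroup (Fin 10))) ≃* Sp[n]) := by
  obtain ⟨R, hR, ⟨e⟩⟩ := sp_nine (F := F) hn
  obtain ⟨R', hR', he⟩ := CfsgLib.SLPres77.exists_pres_pad R e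
  exact ⟨R', by omega, he⟩

end CfsgLib.SpPres77
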